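import Cfsg.Agent.Chev.WeylAll
import Cfsg.Agent.Chev.Functorial
import Mathlib.GroupTheory.Perm.Closure
import Mathlib.Algebra.Field.ZMod

/-!
`B₂(2) ≅ S₆`: the action on an orbit of six row vectors of the Lie algebra.
-/

set_option autoImplicit false

namespace Cfsg.Agent.Chev.B2Two

open Cfsg.Lie
open scoped MatrixGroups

universe u

abbrev E : Type := ZMod 2

/-- Six row vectors permuted by the group. -/
def vec (i : Fin 6) : chevB2.Idx → E := fun a =>
  (([[0, 1, 0, 0, 0, 1, 1, 0, 0, 0], [0, 1, 0, 0, 0, 1, 1, 0, 0, 1], [0, 1, 1, 0, 0, 1, 1, 0, 0, 0],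
    [0, 1, 1, 0, 0, 1, 0, 0, 0, 1], [0, 1, 1, 0, 0, 0, 1, 0, 0, 1],
    [0, 1, 1, 0, 0, 0, 0, 0, 0, 1]] : List (List E)).getD i []).getD
    (match a with | .inl j => (j : ℕ) | .inr s => 2 + (s : ℕ)) 0

theorem vec_injective : Function.Injective vec := by
  suffices H : ∀ p : Fin 6 × Fin 6, vec p.1 = vec p.2 → p.1 = p.2 from fun i j h => H (i, j) h
  decide +kernel

/-- The permutation of `x_r(1)`. -/
def table (r : Fin 8) : Fin 6 → Fin 6 := fun i =>
  (([[1, 0, 2, 3, 4, 5], [1, 0, 3, 2, 5, 4], [1, 0, 4, 5, 2, 3], [0, 1, 2, 3, 5, 4],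
    [0, 1, 2, 5, 4, 3], [2, 3, 0, 1, 5, 4], [2, 4, 0, 5, 1, 3],
    [2, 1, 0, 3, 4, 5]] : List (List (Fin 6))).getD r []).getD i 0

theorem table_invol (r : Fin 8) : Function.Involutive (table r) := by
  intro i
  revert r i
  suffices H : ∀ p : Fin 8 × Fin 6, table p.1 (table p.1 p.2) = p.2 from fun r i => H (r, i)
  decide +kernel

/-- The permutation of `x_r(1)`, bundled. -/
def perm (r : Fin 8) : Equiv.Perm (Fin 6) := (table_invol r).toPerm (table r)

theorem vec_xMat (r : Fin chevB2.nroots) (i : Fin 6) :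
    Matrix.vecMul (vec (table r i)) (chevB2.xMat E r 1) = vec i := by
  revert r i
  suffices H : ∀ p : Fin chevB2.nroots × Fin 6,
      Matrix.vecMul (vec (table p.1 p.2)) (chevB2.xMat E p.1 1) = vec p.2 from fun r i => H (r, i)
  decide +kernel

/-- The elements permuting the six vectors. -/
def stab : Subgroup (GL chevB2.Idx E) where
  carrier := {g | ∃ σ : Equiv.Perm (Fin 6), ∀ i,
    Matrix.vecMul (vec (σ i)) (g : Matrix chevB2.Idx chevB2.Idx E) = vec i}
  one_mem' := ⟨1, fun i => by simp⟩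
  mul_mem' := by
    rintro g h ⟨σ, hσ⟩ ⟨τ, hτ⟩
    exact ⟨σ * τ, fun i => by
      rw [Units.val_mul, ← Matrix.vecMul_vecMul, Equiv.Perm.mul_apply, hσ, hτ]⟩
  inv_mem' := by
    rintro g ⟨σ, hσ⟩
    exact ⟨σ⁻¹, fun i => by
      have := hσ (σ⁻¹ i)
      rw [app_inv] at this
      rw [← this, Matrix.vecMul_vecMul, ← Units.val_mul, mul_inv_cancel, Units.val_one,
        Matrix.vecMul_one]⟩

theorem group_le_stab : chevB2.group E ≤ stab := by
  refine (Subgroup.closure_le _).2 ?_
  rintro g ⟨r, t, hg⟩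
  rcases (show ∀ s : E, s = 0 ∨ s = 1 by decide) t with rfl | rfl
  · have : g = 1 := Units.ext (hg.trans ((show ∀ r : Fin chevB2.nroots,
      chevB2.xMat E r 0 = 1 by decide +kernel) r))
    rw [this]; exact stab.one_mem
  · exact ⟨perm r, fun i => by rw [hg]; exact vec_xMat r i⟩

theorem act_unique {g : GL chevB2.Idx E} {σ τ : Equiv.Perm (Fin 6)}
    (hσ : ∀ i, Matrix.vecMul (vec (σ i)) (g : Matrix chevB2.Idx chevB2.Idx E) = vec i)
    (hτ : ∀ i, Matrix.vecMul (vec (τ i)) (g : Matrix chevB2.Idx chevB2.Idx E) = vec i) : σ = τ := by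
  refine Equiv.ext fun i => vec_injective ?_
  have := congrArg (Matrix.vecMul · ((g⁻¹ : GL chevB2.Idx E) : Matrix chevB2.Idx chevB2.Idx E))
    ((hσ i).trans (hτ i).symm)
  simpa [Matrix.vecMul_vecMul, ← Units.val_mul] using this

/-- The permutation action on the six vectors. -/
noncomputable def act : ↥(chevB2.group E) →* Equiv.Perm (Fin 6) where
  toFun g := (group_le_stab g.2).choose
  map_one' := act_unique (group_le_stab (one_mem _)).choose_spec fun i => by simp
  map_mul' g h := act_unique (group_le_stab (g * h).2).choose_spec fun i => by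
    rw [Subgroup.coe_mul, Units.val_mul, ← Matrix.vecMul_vecMul, Equiv.Perm.mul_apply,
      (group_le_stab g.2).choose_spec, (group_le_stab h.2).choose_spec]

theorem perm_mem_range (r : Fin 8) : perm r ∈ act.range := by
  refine ⟨⟨xG facts_chevB2.{0} (r : ℕ) (1 : E), xG_mem_group facts_chevB2.{0} (r : ℕ) (1 : E)⟩,
    act_unique (group_le_stab (xG_mem_group facts_chevB2.{0} (r : ℕ) (1 : E))).choose_spec
      fun i => ?_⟩
  rw [xG_val, ChevalleyDatum.x, dif_pos (show (r : ℕ) < chevB2.nroots from r.2)]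
  exact vec_xMat r i

theorem act_surjective : Function.Surjective act := by
  rw [← MonoidHom.range_eq_top, eq_top_iff]
  intro σ _
  have h : σ ∈ Submonoid.closure (Set.range fun i : Fin 5 => Equiv.swap i.castSucc i.succ) := by
    rw [Equiv.Perm.mclosure_swap_castSucc_succ]; exact Submonoid.mem_top _
  refine (Submonoid.closure_le (S := act.range.toSubmonoid)).2 ?_ h
  rintro _ ⟨i, rfl⟩
  have hw : ∀ i : Fin 5, Equiv.swap i.castSucc i.succ =
      ((([[0], [0, 7, 0], [1, 0, 3], [3, 4, 3], [3]] : List (List (Fin 8))).getD i []).map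
        perm).prod := by decide +kernel
  show Equiv.swap i.castSucc i.succ ∈ act.range
  rw [hw i]
  exact Subgroup.list_prod_mem _ fun x hx => by
    obtain ⟨r, -, rfl⟩ := List.mem_map.1 hx
    exact perm_mem_range r

theorem card_group_two {F : Type u} [Field F] [Fintype F] (hF : Fintype.card F = 2) :
    Nat.card ↥(chevB2.group F) = 720 := by
  have := b2_card_group F
  simpa [hF, Fin.prod_univ_two] using this

/-- The isomorphism. -/
theorem nonempty_equiv {F : Type u} [Field F] [Fintype F] (hF : Fintype.card F = 2) :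
    Nonempty (↥(chevB2.group F) ≃* Equiv.Perm (Fin 6)) := by
  have : CharP F 2 := charP_of_card_eq_prime hF
  have : Finite ↥(chevB2.group F) := Subtype.finite
  have : Finite ↥(chevB2.group E) := Subtype.finite
  have hE : Nat.card ↥(chevB2.group E) = 720 := card_group_two (ZMod.card 2)
  let f : E →+* F := ZMod.castHom (dvd_refl 2) F
  have h1 : Function.Bijective (groupMap facts_chevB2.{0} facts_chevB2.{u} f) :=
    (Nat.bijective_iff_injective_and_card _).2
      ⟨groupMap_injective _ _ f, hE.trans (card_group_two hF).symm⟩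
  have h2 : Function.Bijective act :=
    (Nat.bijective_iff_surjective_and_card _).2 ⟨act_surjective, by
      rw [hE, Nat.card_eq_fintype_card, Fintype.card_perm, Fintype.card_fin]; rfl⟩
  exact ⟨(MulEquiv.ofBijective _ h1).symm.trans (MulEquiv.ofBijective _ h2)⟩

end Cfsg.Agent.Chev.B2Two
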